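import Mathlib.LinearAlgebra.QuadraticForm.Basic
import Mathlib.LinearAlgebra.Eigenspace.Minpoly
import Mathlib.FieldTheory.Separable
import Mathlib.Algebra.CharP.Lemmas
import Mathlib.LinearAlgebra.FiniteDimensional.Basic
import Mathlib.Algebra.CharP.Algebra

/-!
Finite order isometries of anisotropic quadratic forms.
-/

set_option autoImplicit false

universe u v

open Polynomial

namespace Groth.Agent.BddFin

variable {K : Type u} [Field K] {V : Type v} [AddCommGroup V] [Module K V]

theorem exists_second_order {N : Module.End K V} {n : ℕ} (hn : N ^ n = 0) (hN : N ≠ 0) :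
    ∃ x, N x ≠ 0 ∧ N (N x) = 0 := by
  classical
  have hex : ∃ j, N ^ j = 0 := ⟨n, hn⟩
  have hmin := Nat.find_spec hex
  by_cases hj : Nat.find hex ≤ 1
  · exfalso
    refine hN ?_
    have h : N ^ 1 = 0 := by rw [← Nat.add_sub_cancel' hj, pow_add, hmin, zero_mul]
    simpa using h
  · obtain ⟨j, hj'⟩ : ∃ j, Nat.find hex = j + 2 := ⟨Nat.find hex - 2, by omega⟩
    have h1 : N ^ (j + 1) ≠ 0 := Nat.find_min hex (by omega)
    obtain ⟨x, hx⟩ : ∃ x, (N ^ (j + 1)) x ≠ 0 := by
      by_contra! h
      exact h1 (LinearMap.ext h)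
    refine ⟨(N ^ j) x, ?_, ?_⟩
    · rwa [← Module.End.mul_apply, ← pow_succ']
    · rw [hj', pow_succ', pow_succ'] at hmin
      exact LinearMap.congr_fun hmin x

variable (q : QuadraticForm K V)

theorem isometry_eq_one_of_pow_char (p : ℕ) [Fact p.Prime] [CharP K p] (hp : p ≠ 2) (hq : q.Anisotropic)
    (g : V ≃ₗ[K] V) (hg : ∀ x : V, q (g x) = q x) (hgp : g ^ p = 1) : g = 1 := by
  set G : Module.End K V := g.toLinearMap
  have hG : G ^ p = 1 := by
    have h1 : ∀ n : ℕ, G ^ n = (g ^ n).toLinearMap := fun n => by
      induction n with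
      | zero => rfl
      | succ n ih => rw [pow_succ, ih, pow_succ]; rfl
    rw [h1, hgp]; rfl
  by_contra hne
  rcases subsingleton_or_nontrivial V with hV | hV
  · exact hne (LinearEquiv.ext fun x => Subsingleton.elim _ _)
  haveI : CharP (Module.End K V) p :=
    charP_of_injective_algebraMap (algebraMap K (Module.End K V)).injective p
  have hN : (G - 1) ^ p = 0 := by rw [sub_pow_char_of_commute (p := p) (Commute.one_right G), hG, one_pow, sub_self]
  have hN0 : G - 1 ≠ 0 := fun h => hne (LinearEquiv.ext fun x => LinearMap.congr_fun (sub_eq_zero.1 h) x)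
  obtain ⟨x, hw, hw'⟩ := exists_second_order hN hN0
  set w := (G - 1) x with hwdef
  have hgx : g x = x + w := by simp [hwdef, G]
  have hgw : g w = w := sub_eq_zero.1 hw'
  have h1 := hg x
  rw [hgx, QuadraticMap.map_add q] at h1
  have hgg : g (g x) = x + (2 : K) • w := by rw [hgx, map_add, hgx, hgw, add_assoc, two_smul]
  have h2 := (hg (g x)).trans (hg x)
  rw [hgg, QuadraticMap.map_add q, QuadraticMap.map_smul, QuadraticMap.polar_smul_right, smul_eq_mul,
    smul_eq_mul] at h2
  have h2K : (2 : K) ≠ 0 := Ring.two_ne_zero (by rwa [← (CharP.ringChar_of_prime_eq_zero Fact.out (CharP.cast_eq_zero K p))] at hp)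
  have h3 : (2 : K) * q w = 0 := by linear_combination h2 - 2 * h1
  exact hw (hq _ ((mul_eq_zero.1 h3).resolve_left h2K))

theorem isometry_sq_eq_one [FiniteDimensional K V] (hK : ∀ n : ℕ, 0 < n → (X ^ n - 1 : K[X]).Splits)
    (h2 : (2 : K) ≠ 0) (hq : q.Anisotropic) (g : V ≃ₗ[K] V) (hg : ∀ x : V, q (g x) = q x) (d : ℕ) (hd : 0 < d)
    (hgd : g ^ d = 1) : g ^ 2 = 1 := by
  induction d using Nat.strong_induction_on generalizing g with
  | _ d ih =>
    by_cases hdK : (d : K) = 0
    · obtain ⟨p, hp⟩ := CharP.exists K
      have hpd : p ∣ d := (CharP.cast_eq_zero_iff K p d).1 hdK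
      have hp0 : p ≠ 0 := fun h => by rw [h, zero_dvd_iff] at hpd; omega
      haveI : Fact p.Prime := ⟨(CharP.char_is_prime_or_zero K p).resolve_right hp0⟩
      obtain ⟨e, rfl⟩ := hpd
      have hp2 : p ≠ 2 := fun h => h2 (by subst h; exact CharP.cast_eq_zero K 2)
      have hge : ∀ n x, q ((g ^ n : V ≃ₗ[K] V) x) = q x := fun n => by
        induction n with
        | zero => intro x; rfl
        | succ n ih' => intro x; rw [pow_succ]; exact (ih' (g x)).trans (hg x)
      have he : g ^ e = 1 := isometry_eq_one_of_pow_char q p hp2 hq _ (hge e) (by rw [← pow_mul, mul_comm, hgd])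
      have he0 : 0 < e := Nat.pos_of_ne_zero (by rintro rfl; simp at hd)
      exact ih e (lt_mul_of_one_lt_left he0 (Fact.out : p.Prime).one_lt) g hg he0 he
    · set G : Module.End K V := g.toLinearMap with hGdef
      have hGn : ∀ n : ℕ, G ^ n = (g ^ n).toLinearMap := fun n => by
        induction n with
        | zero => rfl
        | succ n ih' => rw [pow_succ, ih', pow_succ]; rfl
      have hG : aeval G (X ^ d - 1 : K[X]) = 0 := by
        rw [map_sub, map_pow, aeval_X, map_one, hGn, hgd]
        exact sub_self _
      have hdvd : minpoly K G ∣ (X ^ d - 1 : K[X]) := minpoly.dvd K G hG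
      have hint : IsIntegral K G := Algebra.IsIntegral.isIntegral G
      have hsep : (X ^ d - 1 : K[X]).Separable := by
        rw [← map_one C]
        exact separable_X_pow_sub_C 1 hdK one_ne_zero
      have hne : (X ^ d - 1 : K[X]) ≠ 0 := by
        rw [← map_one C]; exact X_pow_sub_C_ne_zero hd 1
      have hspl : (minpoly K G).Splits := (hK d hd).of_dvd hne hdvd
      have hnodup : (minpoly K G).roots.Nodup := nodup_roots (hsep.of_dvd hdvd)
      have hroots : ∀ μ ∈ (minpoly K G).roots, IsRoot (X ^ 2 - 1 : K[X]) μ := by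
        intro μ hμ
        obtain ⟨x, hx⟩ := (Module.End.hasEigenvalue_of_isRoot (isRoot_of_mem_roots hμ)).exists_hasEigenvector
        have h := hg x
        rw [show g x = μ • x from hx.apply_eq_smul, QuadraticMap.map_smul, smul_eq_mul] at h
        have hx0 : q x ≠ 0 := fun h0 => hx.2 (hq x h0)
        have hμ2 : μ * μ = 1 := mul_right_cancel₀ hx0 (h.trans (one_mul _).symm)
        simp [IsRoot, pow_two, hμ2]
      have hdvd2 : minpoly K G ∣ (X ^ 2 - 1 : K[X]) := by
        rw [hspl.eq_prod_roots_of_monic (minpoly.monic hint)]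
        have hne2 : (X ^ 2 - 1 : K[X]) ≠ 0 := by
          rw [← map_one C]; exact X_pow_sub_C_ne_zero two_pos 1
        exact (Multiset.prod_X_sub_C_dvd_iff_le_roots hne2 _).2
          ((Multiset.le_iff_subset hnodup).2 fun μ hμ => (mem_roots hne2).2 (hroots μ hμ))
      obtain ⟨r, hr⟩ := hdvd2
      have h0 : aeval G (X ^ 2 - 1 : K[X]) = 0 := by rw [hr, map_mul, minpoly.aeval, zero_mul]
      rw [map_sub, map_pow, aeval_X, map_one, hGn] at h0
      exact LinearEquiv.ext fun x => LinearMap.congr_fun (sub_eq_zero.1 h0) x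

/-- At most `2 ^ n` commuting involutions of an `n`-dimensional space. -/
theorem card_le_of_commuting_involutions (h2 : (2 : K) ≠ 0) : ∀ (n : ℕ) (W : Type v) [AddCommGroup W] [Module K W]
    [FiniteDimensional K W], Module.finrank K W = n → ∀ S : Finset (Module.End K W), (∀ a ∈ S, a * a = 1) →
      (∀ a ∈ S, ∀ b ∈ S, a * b = b * a) → S.card ≤ 2 ^ n := by
  classical
  intro n
  induction n using Nat.strong_induction_on with
  | _ n ih =>
    intro W _ _ _ hn S hinv hcomm
    by_cases hsc : ∀ a ∈ S, a = 1 ∨ a = -1
    · rcases Nat.eq_zero_or_pos n with h0 | h0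
      · subst h0
        haveI : Subsingleton W := Module.finrank_zero_iff.1 hn
        rw [pow_zero]
        exact Finset.card_le_one.2 fun a _ b _ => Subsingleton.elim a b
      · have hsub : S ⊆ {1, -1} := fun a ha => by simpa using hsc a ha
        exact (Finset.card_le_card hsub).trans (Finset.card_le_two.trans (Nat.le_self_pow h0.ne' 2))
    · push_neg at hsc
      obtain ⟨g, hg, hg1, hg2⟩ := hsc
      set P := LinearMap.ker (g - 1)
      set M := LinearMap.ker (g + 1)
      have hgg : ∀ x, g (g x) = x := fun x => LinearMap.congr_fun (hinv g hg) x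
      have hcompl : IsCompl P M := by
        constructor
        · rw [Submodule.disjoint_def]
          intro x hx hx'
          have e1 : g x = x := sub_eq_zero.1 hx
          have e2 : g x + x = 0 := hx'
          rw [e1, ← two_smul K x, smul_eq_zero] at e2
          exact e2.resolve_left h2
        · rw [codisjoint_iff, eq_top_iff]
          intro x _
          rw [Submodule.mem_sup]
          refine ⟨(2 : K)⁻¹ • (x + g x), ?_, (2 : K)⁻¹ • (x - g x), ?_, ?_⟩
          · show (g - 1) _ = 0
            simp [hgg, smul_sub, smul_add]; abel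
          · show (g + 1) _ = 0
            simp [hgg, smul_sub, smul_add]
          · rw [← smul_add, add_add_sub_cancel, ← two_smul K x, smul_smul, inv_mul_cancel₀ h2, one_smul]
      have hP : ∀ a ∈ S, ∀ x ∈ P, a x ∈ P := fun a ha x hx => by
        have e1 : g x = x := sub_eq_zero.1 hx
        show (g - 1) (a x) = 0
        rw [LinearMap.sub_apply, Module.End.one_apply, sub_eq_zero, ← Module.End.mul_apply, hcomm g hg a ha,
          Module.End.mul_apply, e1]
      have hM : ∀ a ∈ S, ∀ x ∈ M, a x ∈ M := fun a ha x hx => by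
        have e1 : g x + x = 0 := hx
        show (g + 1) (a x) = 0
        rw [LinearMap.add_apply, Module.End.one_apply, ← Module.End.mul_apply, hcomm g hg a ha, Module.End.mul_apply,
          ← map_add, e1, map_zero]
      have hdim : Module.finrank K P + Module.finrank K M = n :=
        (Submodule.finrank_add_eq_of_isCompl hcompl).trans hn
      have hP0 : 0 < Module.finrank K P := by
        by_contra h
        have hb : P = ⊥ := Submodule.finrank_eq_zero.1 (by omega)
        refine hg2 (LinearMap.ext fun x => eq_neg_of_add_eq_zero_left ?_)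
        have hx : x + g x ∈ P := by show (g - 1) _ = 0; simp [map_add, hgg]
        rw [hb, Submodule.mem_bot, add_comm] at hx
        exact hx
      have hM0 : 0 < Module.finrank K M := by
        by_contra h
        have hb : M = ⊥ := Submodule.finrank_eq_zero.1 (by omega)
        refine hg1 (LinearMap.ext fun x => sub_eq_zero.1 ?_)
        have hx : g x - x ∈ M := by show (g + 1) _ = 0; simp [map_sub, hgg]; abel
        rw [hb, Submodule.mem_bot] at hx
        exact hx
      let rP : Module.End K W → Module.End K P := fun a => if h : ∀ x ∈ P, a x ∈ P then a.restrict h else 0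
      let rM : Module.End K W → Module.End K M := fun a => if h : ∀ x ∈ M, a x ∈ M then a.restrict h else 0
      have hrP : ∀ a ∈ S, ∀ x : P, ((rP a x : P) : W) = a x := fun a ha x => by
        simp only [rP, dif_pos (hP a ha)]; rfl
      have hrM : ∀ a ∈ S, ∀ x : M, ((rM a x : M) : W) = a x := fun a ha x => by
        simp only [rM, dif_pos (hM a ha)]; rfl
      have hinj : Set.InjOn (fun a => (rP a, rM a)) (S : Set (Module.End K W)) := fun a ha b hb h => by
        refine LinearMap.ext fun x => ?_
        obtain ⟨y, hy, z, hz, rfl⟩ := Submodule.mem_sup.1 (hcompl.sup_eq_top ▸ Submodule.mem_top : x ∈ P ⊔ M)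
        rw [map_add, map_add, ← hrP a ha ⟨y, hy⟩, ← hrM a ha ⟨z, hz⟩, ← hrP b hb ⟨y, hy⟩, ← hrM b hb ⟨z, hz⟩,
          show rP a = rP b from congrArg Prod.fst h, show rM a = rM b from congrArg Prod.snd h]
      have hcP : (S.image rP).card ≤ 2 ^ Module.finrank K P := by
        refine ih _ (by omega) P rfl _ ?_ ?_
        · simp only [Finset.mem_image]
          rintro _ ⟨a, ha, rfl⟩
          refine LinearMap.ext fun x => Subtype.ext ?_
          rw [Module.End.mul_apply, hrP a ha, hrP a ha]
          exact LinearMap.congr_fun (hinv a ha) (x : W)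
        · simp only [Finset.mem_image]
          rintro _ ⟨a, ha, rfl⟩ _ ⟨b, hb, rfl⟩
          refine LinearMap.ext fun x => Subtype.ext ?_
          rw [Module.End.mul_apply, Module.End.mul_apply, hrP a ha, hrP b hb, hrP b hb, hrP a ha]
          exact LinearMap.congr_fun (hcomm a ha b hb) (x : W)
      have hcM : (S.image rM).card ≤ 2 ^ Module.finrank K M := by
        refine ih _ (by omega) M rfl _ ?_ ?_
        · simp only [Finset.mem_image]
          rintro _ ⟨a, ha, rfl⟩
          refine LinearMap.ext fun x => Subtype.ext ?_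
          rw [Module.End.mul_apply, hrM a ha, hrM a ha]
          exact LinearMap.congr_fun (hinv a ha) (x : W)
        · simp only [Finset.mem_image]
          rintro _ ⟨a, ha, rfl⟩ _ ⟨b, hb, rfl⟩
          refine LinearMap.ext fun x => Subtype.ext ?_
          rw [Module.End.mul_apply, Module.End.mul_apply, hrM a ha, hrM b hb, hrM b hb, hrM a ha]
          exact LinearMap.congr_fun (hcomm a ha b hb) (x : W)
      calc S.card = (S.image fun a => (rP a, rM a)).card := (Finset.card_image_of_injOn hinj).symm
        _ ≤ ((S.image rP) ×ˢ (S.image rM)).card := Finset.card_le_card fun z hz => by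
            obtain ⟨a, ha, rfl⟩ := Finset.mem_image.1 hz
            exact Finset.mem_product.2 ⟨Finset.mem_image_of_mem _ ha, Finset.mem_image_of_mem _ ha⟩
        _ ≤ 2 ^ Module.finrank K P * 2 ^ Module.finrank K M := by
            rw [Finset.card_product]; exact Nat.mul_le_mul hcP hcM
        _ = 2 ^ n := by rw [← pow_add, hdim]

end Groth.Agent.BddFin
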